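import Cfsg.Agent.Lib.Unitary.Basic

/-! In a three-dimensional unitary group the `p`-elements normalising a nontrivial `p`-subgroup
multiply to `p`-elements (`p` the characteristic). -/

set_option autoImplicit false

open Cfsg Cfsg.Agent.Lib.Unitary Matrix

namespace Cfsg.Agent.Lib.QdFree.Unitary

variable {F : Type*} [Field F]

theorem parallel_cross {x a b : Fin 3 → F} (ha : x ⬝ᵥ a = 0) (hb : x ⬝ᵥ b = 0) :
    x 0 * (a 2 * b 0 - a 0 * b 2) = x 1 * (a 1 * b 2 - a 2 * b 1) ∧
    x 0 * (a 0 * b 1 - a 1 * b 0) = x 2 * (a 1 * b 2 - a 2 * b 1) ∧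
    x 1 * (a 0 * b 1 - a 1 * b 0) = x 2 * (a 2 * b 0 - a 0 * b 2) := by
  simp only [dotProduct, Fin.sum_univ_three] at ha hb
  refine ⟨?_, ?_, ?_⟩
  · linear_combination a 2 * hb - b 2 * ha
  · linear_combination b 1 * ha - a 1 * hb
  · linear_combination a 0 * hb - b 0 * ha

theorem eq_smul_of_isotropic {q : ℕ} (hF : ∀ x y : F, x ^ q = y ^ q → x = y) (hq : q ≠ 0)
    {r s : Fin 3 → F} (hr : r ≠ 0) (h11 : hermForm 3 F q r r = 0) (h12 : hermForm 3 F q r s = 0)
    (h21 : hermForm 3 F q s r = 0) (h22 : hermForm 3 F q s s = 0) : ∃ l : F, s = l • r := by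
  have d1 : (fun i => r i ^ q) ⬝ᵥ r = 0 := by
    rw [dotProduct_comm]; exact h11
  have d2 : (fun i => r i ^ q) ⬝ᵥ s = 0 := by
    rw [dotProduct_comm]; exact h21
  have d3 : (fun i => s i ^ q) ⬝ᵥ r = 0 := by
    rw [dotProduct_comm]; exact h12
  have d4 : (fun i => s i ^ q) ⬝ᵥ s = 0 := by
    rw [dotProduct_comm]; exact h22
  obtain ⟨a1, a2, a3⟩ := parallel_cross d1 d2
  obtain ⟨b1, b2, b3⟩ := parallel_cross d3 d4
  have hm : ∀ i j, r i * s j = r j * s i := by
    by_contra hne
    push Not at hne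
    obtain ⟨i, j, hne⟩ := hne
    set c0 := r 1 * s 2 - r 2 * s 1
    set c1 := r 2 * s 0 - r 0 * s 2
    set c2 := r 0 * s 1 - r 1 * s 0
    have key : ∀ k l, (r k * s l) ^ q * c0 = (r l * s k) ^ q * c0 ∧
        (r k * s l) ^ q * c1 = (r l * s k) ^ q * c1 ∧
        (r k * s l) ^ q * c2 = (r l * s k) ^ q * c2 := by
      have ha : ∀ k, r k ^ q * c0 = r 0 ^ q * ![c0, c1, c2] k ∧ r k ^ q * c1 = r 1 ^ q * ![c0, c1, c2] k ∧
          r k ^ q * c2 = r 2 ^ q * ![c0, c1, c2] k := by
        intro k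
        fin_cases k <;> simp <;> refine ⟨?_, ?_⟩ <;>
          first
            | linear_combination a1 | linear_combination a2 | linear_combination a3
            | linear_combination -a1 | linear_combination -a2 | linear_combination -a3
      have hb : ∀ k, s k ^ q * c0 = s 0 ^ q * ![c0, c1, c2] k ∧ s k ^ q * c1 = s 1 ^ q * ![c0, c1, c2] k ∧
          s k ^ q * c2 = s 2 ^ q * ![c0, c1, c2] k := by
        intro k
        fin_cases k <;> simp <;> refine ⟨?_, ?_⟩ <;>
          first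
            | linear_combination b1 | linear_combination b2 | linear_combination b3
            | linear_combination -b1 | linear_combination -b2 | linear_combination -b3
      intro k l
      simp only [mul_pow]
      refine ⟨?_, ?_, ?_⟩
      · by_cases h : c0 = 0
        · simp [h]
        · refine mul_right_cancel₀ h ?_
          linear_combination (s l ^ q * c0) * (ha k).1 + r 0 ^ q * ![c0, c1, c2] k * (hb l).1 -
            (s k ^ q * c0) * (ha l).1 - r 0 ^ q * ![c0, c1, c2] l * (hb k).1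
      · by_cases h : c1 = 0
        · simp [h]
        · refine mul_right_cancel₀ h ?_
          linear_combination (s l ^ q * c1) * (ha k).2.1 + r 1 ^ q * ![c0, c1, c2] k * (hb l).2.1 -
            (s k ^ q * c1) * (ha l).2.1 - r 1 ^ q * ![c0, c1, c2] l * (hb k).2.1
      · by_cases h : c2 = 0
        · simp [h]
        · refine mul_right_cancel₀ h ?_
          linear_combination (s l ^ q * c2) * (ha k).2.2 + r 2 ^ q * ![c0, c1, c2] k * (hb l).2.2 -
            (s k ^ q * c2) * (ha l).2.2 - r 2 ^ q * ![c0, c1, c2] l * (hb k).2.2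
    have hz : ∀ k, c0 = 0 ∧ c1 = 0 ∧ c2 = 0 → ∀ l, r k * s l = r l * s k := by
      rintro k ⟨e0, e1, e2⟩ l
      fin_cases k <;> fin_cases l <;> simp <;>
        first
          | linear_combination e0 | linear_combination e1 | linear_combination e2
          | linear_combination -e0 | linear_combination -e1 | linear_combination -e2
    obtain ⟨k0, k1, k2⟩ := key i j
    refine hne (hz i ⟨?_, ?_, ?_⟩ j) <;> by_contra hc
    · exact hne (hF _ _ (mul_right_cancel₀ hc k0))
    · exact hne (hF _ _ (mul_right_cancel₀ hc k1))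
    · exact hne (hF _ _ (mul_right_cancel₀ hc k2))
  obtain ⟨k, hk⟩ : ∃ k, r k ≠ 0 := Function.ne_iff.mp hr
  refine ⟨s k / r k, funext fun i => ?_⟩
  rw [Pi.smul_apply, smul_eq_mul, div_mul_eq_mul_div, eq_div_iff hk]
  linear_combination hm k i

/-- A unimodular matrix fixing a vector and a covector that kills it is unipotent. -/
theorem unipotent_of_fix {A : Matrix (Fin 3) (Fin 3) F} (hdet : A.det = 1) {r c : Fin 3 → F}
    (hr : r ≠ 0) (hc : c ≠ 0) (hcr : c ⬝ᵥ r = 0) (hAr : A *ᵥ r = r) (hcA : c ᵥ* A = c) :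
    (A - 1) ^ 3 = 0 := by
  let φ : (Fin 3 → F) →ₗ[F] F :=
    { toFun := fun v => c ⬝ᵥ v, map_add' := dotProduct_add c, map_smul' := fun a v => dotProduct_smul a c v }
  obtain ⟨w, hw⟩ : ∃ w, φ w ≠ 0 := by
    obtain ⟨k, hk⟩ : ∃ k, c k ≠ 0 := Function.ne_iff.mp hc
    exact ⟨Pi.single k 1, by simp [φ, hk]⟩
  obtain ⟨u, hu0, hu⟩ : ∃ u, φ u = 0 ∧ ∀ a : F, a • r ≠ u := by
    have h1 := LinearMap.finrank_range_add_finrank_ker φ
    have h2 : Module.finrank F ↥(LinearMap.range φ) ≤ 1 :=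
      (Submodule.finrank_le _).trans_eq (Module.finrank_self F)
    rw [Module.finrank_fin_fun] at h1
    by_contra hcon
    push Not at hcon
    have h3 : LinearMap.ker φ ≤ Submodule.span F {r} := fun v hv =>
      Submodule.mem_span_singleton.mpr (hcon v hv)
    have h4 := Submodule.finrank_mono h3
    rw [finrank_span_singleton hr] at h4
    omega
  let P : Matrix (Fin 3) (Fin 3) F := (Matrix.of ![r, u, w])ᵀ
  have hP : IsUnit P := by
    refine Matrix.linearIndependent_cols_iff_isUnit.mp ?_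
    show LinearIndependent F ![r, u, w]
    rw [Fintype.linearIndependent_iff]
    intro g hg
    rw [Fin.sum_univ_three] at hg
    simp only [cons_val_zero, cons_val_one, cons_val] at hg
    have h2 : g 2 = 0 := by
      have := congrArg φ hg
      rw [map_add, map_add, map_smul, map_smul, map_smul, hu0, show φ r = 0 from hcr, map_zero] at this
      simpa [hw] using this
    have h1 : g 1 = 0 := by
      by_contra h1
      refine hu (-(g 0 / g 1)) ?_
      rw [h2, zero_smul, add_zero] at hg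
      calc -(g 0 / g 1) • r = (g 1)⁻¹ • -(g 0 • r) := by rw [smul_neg, smul_smul, neg_smul]; ring_nf
        _ = (g 1)⁻¹ • g 1 • u := by rw [← eq_neg_of_add_eq_zero_right hg]
        _ = u := inv_smul_smul₀ h1 u
    have h0 : g 0 = 0 := by
      rw [h1, h2, zero_smul, zero_smul, add_zero, add_zero] at hg
      exact (smul_eq_zero.mp hg).resolve_right hr
    intro i
    fin_cases i <;> assumption
  obtain ⟨Q, hQ⟩ := hP
  let M : Matrix (Fin 3) (Fin 3) F := ((Q⁻¹ : (Matrix (Fin 3) (Fin 3) F)ˣ) : Matrix (Fin 3) (Fin 3) F) * (A - 1) * P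
  have hPM : P * M = (A - 1) * P := by
    simp only [M, ← hQ, ← mul_assoc, Units.mul_inv, one_mul]
  have hP0 : P *ᵥ Pi.single 0 1 = r := by
    ext i; simp [P]
  have hM0 : ∀ i, M i 0 = 0 := by
    intro i
    have : M *ᵥ Pi.single 0 1 = 0 := by
      simp only [M, ← mulVec_mulVec, hP0, sub_mulVec, one_mulVec, hAr, sub_self, mulVec_zero]
    simpa using congrFun this i
  have hM2 : ∀ j, M 2 j = 0 := by
    intro j
    have hcP : c ᵥ* P = ![0, 0, φ w] := by
      ext k
      fin_cases k <;> simp [P, vecMul, φ]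
      · exact hcr
      · exact hu0
    have : (c ᵥ* P) ᵥ* M = 0 := by
      rw [vecMul_vecMul, hPM, ← vecMul_vecMul, vecMul_sub, hcA, vecMul_one, sub_self, zero_vecMul]
    have := congrFun this j
    rw [hcP] at this
    simpa [vecMul, dotProduct, Fin.sum_univ_three, hw] using this
  have hdetM : (1 + M).det = 1 := by
    have : 1 + M = ((Q⁻¹ : (Matrix (Fin 3) (Fin 3) F)ˣ) : Matrix (Fin 3) (Fin 3) F) * A * P := by
      simp only [M, ← hQ, mul_sub, sub_mul, mul_one, Units.inv_mul]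
      abel
    rw [this, ← hQ, Matrix.det_units_conj' Q A, hdet]
  have hM11 : M 1 1 = 0 := by
    simpa [det_fin_three, hM0, hM2, one_apply] using hdetM
  have hM3 : M ^ 3 = 0 := by
    ext i j
    fin_cases i <;> fin_cases j <;>
      simp [pow_succ, Matrix.mul_apply, Fin.sum_univ_three, hM0, hM2, hM11]
  have hAM : A - 1 = (Q : Matrix (Fin 3) (Fin 3) F) * M * ((Q⁻¹ : (Matrix (Fin 3) (Fin 3) F)ˣ) : Matrix (Fin 3) (Fin 3) F) := by
    rw [hQ, hPM, ← hQ, Units.mul_inv_cancel_right]
  rw [hAM, Units.conj_pow, hM3, mul_zero, zero_mul]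

variable [Fintype F] {p q : ℕ} [hp : Fact p.Prime] [CharP F p]

theorem isPElement_mul (hF : Fintype.card F = q ^ 2) (S : Subgroup (SU 3 F q)) (hS : IsPGroup p ↥S)
    (hne : S ≠ ⊥) {x y : SU 3 F q} (hx : x ∈ Subgroup.normalizer (S : Set (SU 3 F q)))
    (hy : y ∈ Subgroup.normalizer (S : Set (SU 3 F q)))
    {a b : ℕ} (hxa : x ^ p ^ a = 1) (hyb : y ^ p ^ b = 1) : ∃ k, (x * y) ^ p ^ k = 1 := by
  let T : SU 3 F q →* Matrix (Fin 3) (Fin 3) F := (slToMat 3 F).comp (SU 3 F q).subtype
  have hT : ∀ (g : SU 3 F q) (u v : Fin 3 → F), hermForm 3 F q (T g *ᵥ u) (T g *ᵥ v) = hermForm 3 F q u v :=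
    fun g => g.2
  let D : Submodule F (Fin 3 → F) :=
    Submodule.span F {z | ∃ s ∈ S, ∃ v, z = T s *ᵥ v - v}
  let W : Set (Fin 3 → F) := {w | ∀ s ∈ S, T s *ᵥ w = w}
  have hWD : ∀ w ∈ W, ∀ d ∈ D, hermForm 3 F q w d = 0 ∧ hermForm 3 F q d w = 0 := by
    intro w hw d hd
    induction hd using Submodule.span_induction with
    | mem z hz =>
        obtain ⟨s, hs, v, rfl⟩ := hz
        have h1 := hT s w v
        have h2 := hT s v w
        rw [hw s hs] at h1 h2
        constructor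
        · rw [sub_eq_add_neg, ← neg_one_smul F v, herm_add_right _ _ _ hF, herm_smul_right, neg_pow_q hF, one_pow, h1]
          ring
        · rw [herm_sub_left, h2, sub_self]
    | zero => exact ⟨herm_zero_right _ hF, herm_zero_left _⟩
    | add z z' _ _ h h' =>
        exact ⟨by rw [herm_add_right _ _ _ hF, h.1, h'.1, add_zero], by rw [herm_add_left, h.2, h'.2, add_zero]⟩
    | smul t z _ h =>
        exact ⟨by rw [herm_smul_right, h.1, mul_zero], by rw [herm_smul_left, h.2, mul_zero]⟩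
  have hDinv : ∀ g ∈ Subgroup.normalizer (S : Set (SU 3 F q)), ∀ d ∈ D, T g *ᵥ d ∈ D := by
    intro g hg d hd
    induction hd using Submodule.span_induction with
    | mem z hz =>
        obtain ⟨s, hs, v, rfl⟩ := hz
        refine Submodule.subset_span ⟨g * s * g⁻¹, (Subgroup.mem_normalizer_iff.mp hg s).mp hs, T g *ᵥ v, ?_⟩
        rw [mulVec_sub, mulVec_mulVec, mulVec_mulVec, ← map_mul, ← map_mul, inv_mul_cancel_right]
    | zero => rw [mulVec_zero]; exact zero_mem _
    | add z z' _ _ h h' => rw [mulVec_add]; exact add_mem h h'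
    | smul t z _ h => rw [mulVec_smul]; exact Submodule.smul_mem _ _ h
  have hWinv : ∀ g ∈ Subgroup.normalizer (S : Set (SU 3 F q)), ∀ w ∈ W, T g *ᵥ w ∈ W := by
    intro g hg w hw s hs
    have := hw (g⁻¹ * s * g) (by simpa using (Subgroup.mem_normalizer_iff.mp (inv_mem hg) s).mp hs)
    calc T s *ᵥ T g *ᵥ w = T g *ᵥ T (g⁻¹ * s * g) *ᵥ w := by
          rw [mulVec_mulVec, mulVec_mulVec, ← map_mul, ← map_mul]; group
      _ = T g *ᵥ w := by rw [this]
  -- `S` fixes a nonzero vector of `D`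
  obtain ⟨r, hrD, hrW, hr0⟩ : ∃ r ∈ D, r ∈ W ∧ r ≠ 0 := by
    have hDS : ∀ (s : ↥S), ∀ d ∈ D, T s *ᵥ d ∈ D := fun s => hDinv _ (Subgroup.le_normalizer s.2)
    let act : MulAction ↥S ↥D :=
      { smul := fun s d => ⟨T s *ᵥ d, hDS s d d.2⟩
        one_smul := fun d => Subtype.ext (by show T ((1 : ↥S) : SU 3 F q) *ᵥ (d : Fin 3 → F) = d; rw [Subgroup.coe_one, map_one, one_mulVec])
        mul_smul := fun s t d => Subtype.ext (by show T ((s * t : ↥S) : SU 3 F q) *ᵥ (d : Fin 3 → F) = T s *ᵥ T t *ᵥ d; rw [Subgroup.coe_mul, map_mul, mulVec_mulVec]) }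
    have hDne : D ≠ ⊥ := by
      intro hD
      apply hne
      rw [Subgroup.eq_bot_iff_forall]
      intro s hs
      apply Subtype.ext; apply Subtype.ext
      show T s = 1
      refine Matrix.ext_iff_mulVec.mpr fun v => ?_
      rw [one_mulVec, ← sub_eq_zero, ← Submodule.mem_bot F, ← hD]
      exact Submodule.subset_span ⟨s, hs, v, rfl⟩
    have hcard : p ∣ Nat.card ↥D := by
      obtain ⟨n, hpn, hcn⟩ := FiniteField.card F p
      rw [Module.natCard_eq_pow_finrank (K := F), Nat.card_eq_fintype_card, hcn, ← pow_mul]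
      refine dvd_pow_self p (mul_ne_zero n.pos.ne' ?_)
      exact (Module.finrank_pos_iff_exists_ne_zero.mpr (by
        obtain ⟨d, hd, hd0⟩ := (Submodule.ne_bot_iff _).mp hDne
        exact ⟨⟨d, hd⟩, fun h => hd0 (congrArg Subtype.val h)⟩)).ne'
    obtain ⟨d, hd, hd0⟩ := hS.exists_fixed_point_of_prime_dvd_card_of_fixed_point ↥D hcard
      (a := 0) (fun s => Subtype.ext (by show T (s : SU 3 F q) *ᵥ (0 : Fin 3 → F) = 0; exact mulVec_zero _))
    exact ⟨d, d.2, fun s hs => congrArg Subtype.val (hd ⟨s, hs⟩), fun h => hd0 (Subtype.ext h).symm⟩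
  have hrr : hermForm 3 F q r r = 0 := (hWD r hrW r hrD).1
  have heig : ∀ g ∈ Subgroup.normalizer (S : Set (SU 3 F q)), ∃ l : F, T g *ᵥ r = l • r := fun g hg =>
    eq_smul_of_isotropic (fun _ _ h => pow_q_injective hF h) (q_ne_zero hF) hr0 hrr
      (hWD r hrW _ (hDinv g hg r hrD)).1 (hWD r hrW _ (hDinv g hg r hrD)).2
      (hWD _ (hWinv g hg r hrW) _ (hDinv g hg r hrD)).1
  have hfix : ∀ g ∈ Subgroup.normalizer (S : Set (SU 3 F q)), ∀ n, g ^ p ^ n = 1 → T g *ᵥ r = r := by
    intro g hg n hn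
    obtain ⟨l, hl⟩ := heig g hg
    have hpow : ∀ j : ℕ, T (g ^ j) *ᵥ r = l ^ j • r := by
      intro j
      induction j with
      | zero => simp [map_one]
      | succ j ih => rw [pow_succ, map_mul, ← mulVec_mulVec, hl, mulVec_smul, ih, smul_smul, mul_comm, ← pow_succ]
    have h1 := hpow (p ^ n)
    rw [hn, map_one, one_mulVec] at h1
    have h2 : l ^ p ^ n = 1 := smul_left_injective F hr0 (show l ^ p ^ n • r = (1 : F) • r by rw [one_smul, ← h1])
    have h3 : (l - 1) ^ p ^ n = 0 := by rw [sub_pow_char_pow, h2, one_pow, sub_self]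
    rw [hl, sub_eq_zero.mp (eq_zero_of_pow_eq_zero h3), one_smul]
  have hxy : T (x * y) *ᵥ r = r := by
    rw [map_mul, ← mulVec_mulVec, hfix y hy b hyb, hfix x hx a hxa]
  let c : Fin 3 → F := fun i => r i ^ q
  have hc : c ≠ 0 := fun h => hr0 (funext fun i => eq_zero_of_pow_eq_zero (congrFun h i))
  have hcA : c ᵥ* T (x * y) = c := by
    apply dotProduct_eq
    intro v
    have := hT (x * y) v r
    rw [hxy] at this
    rw [← dotProduct_mulVec, dotProduct_comm c, dotProduct_comm c]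
    exact this
  have h3 := unipotent_of_fix (A := T (x * y)) (x * y).1.2 hr0 hc
    (by rw [dotProduct_comm]; exact hrr) hxy hcA
  refine ⟨3, Subtype.ext (Subtype.ext ?_)⟩
  show T ((x * y) ^ p ^ 3) = 1
  rw [map_pow, ← sub_eq_zero]
  have := sub_pow_char_pow_of_commute p 3 (Commute.one_right (T (x * y)))
  rw [one_pow] at this
  rw [← this]
  exact pow_eq_zero_of_le (Nat.lt_pow_self hp.out.one_lt).le h3

end Cfsg.Agent.Lib.QdFree.Unitary
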