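import Cfsg.Prelude.Def_LocalEven
import Mathlib

set_option autoImplicit false

open Subgroup

namespace Cfsg.Agent.Lib.QdFree.Basic

/-- If the Sylow `p`-subgroups of `G` are abelian, every `p`-subgroup of a section of `G` is. -/
theorem commute_of_involves {H G : Type*} [Group H] [Group G] [Finite G] {p : ℕ} [Fact p.Prime]
    (P : Sylow p G) (hP : ∀ x ∈ (P : Subgroup G), ∀ y ∈ (P : Subgroup G), x * y = y * x)
    (h : Cfsg.Involves H G) (Q : Subgroup H) (hQ : IsPGroup p ↥Q) :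
    ∀ x ∈ Q, ∀ y ∈ Q, x * y = y * x := by
  obtain ⟨K, R, hn, ⟨e⟩⟩ := h
  let f : ↥K →* H := e.toMonoidHom.comp (QuotientGroup.mk' (R.subgroupOf K))
  have hf : Function.Surjective f := e.surjective.comp (QuotientGroup.mk'_surjective _)
  have : Finite H := Finite.of_surjective f hf
  obtain ⟨S⟩ : Nonempty (Sylow p ↥K) := inferInstance
  obtain ⟨Q', hQ'⟩ := hQ.exists_le_sylow
  obtain ⟨T, hT⟩ : ∃ T : Sylow p H, (T : Subgroup H) = (S : Subgroup ↥K).map f :=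
    ⟨S.mapSurjective hf, rfl⟩
  obtain ⟨h0, hh0⟩ := MulAction.exists_smul_eq H T Q'
  -- the image of `S` is abelian
  have hS : ∀ x ∈ (S : Subgroup ↥K), ∀ y ∈ (S : Subgroup ↥K), x * y = y * x := by
    obtain ⟨P', hP'⟩ := (S.isPGroup'.map K.subtype).exists_le_sylow
    obtain ⟨g, hg⟩ := MulAction.exists_smul_eq G P P'
    intro x hx y hy
    have hx' := hP' ⟨x, hx, rfl⟩
    have hy' := hP' ⟨y, hy, rfl⟩
    rw [← hg, Sylow.coe_subgroup_smul] at hx' hy'
    obtain ⟨a, ha, hax⟩ := hx'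
    obtain ⟨b, hb, hby⟩ := hy'
    apply Subtype.ext
    show (x : G) * y = y * x
    rw [← (show g * a * g⁻¹ = (x : G) from hax), ← (show g * b * g⁻¹ = (y : G) from hby)]
    calc g * a * g⁻¹ * (g * b * g⁻¹) = g * (a * b) * g⁻¹ := by group
      _ = g * (b * a) * g⁻¹ := by rw [hP a ha b hb]
      _ = _ := by group
  intro x hx y hy
  have hx' := hQ' hx
  have hy' := hQ' hy
  rw [← hh0, Sylow.coe_subgroup_smul, hT] at hx' hy'
  obtain ⟨_, ⟨a, ha, rfl⟩, hax⟩ := hx'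
  obtain ⟨_, ⟨b, hb, rfl⟩, hby⟩ := hy'
  rw [← (show h0 * f a * h0⁻¹ = x from hax), ← (show h0 * f b * h0⁻¹ = y from hby)]
  calc h0 * f a * h0⁻¹ * (h0 * f b * h0⁻¹) = h0 * f (a * b) * h0⁻¹ := by rw [map_mul]; group
    _ = h0 * f (b * a) * h0⁻¹ := by rw [hS a ha b hb]
    _ = _ := by rw [map_mul]; group

section Qd

variable {p : ℕ} [Fact p.Prime]

/-- Transvection with off-diagonal entry one, in `SL₃`. -/
def tr3 (i j : Fin 3) (h : i ≠ j) : Matrix.SpecialLinearGroup (Fin 3) (ZMod p) :=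
  ⟨Matrix.transvection i j 1, Matrix.det_transvection_of_ne i j h 1⟩

/-- Upper unitriangular matrices in `SL₃`. -/
def uni3 (p : ℕ) : Subgroup (Matrix.SpecialLinearGroup (Fin 3) (ZMod p)) where
  carrier := {M | (M : Matrix (Fin 3) (Fin 3) (ZMod p)) 1 0 = 0 ∧
    (M : Matrix (Fin 3) (Fin 3) (ZMod p)) 2 0 = 0 ∧ (M : Matrix (Fin 3) (Fin 3) (ZMod p)) 2 1 = 0 ∧
    (M : Matrix (Fin 3) (Fin 3) (ZMod p)) 0 0 = 1 ∧ (M : Matrix (Fin 3) (Fin 3) (ZMod p)) 1 1 = 1 ∧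
    (M : Matrix (Fin 3) (Fin 3) (ZMod p)) 2 2 = 1}
  one_mem' := by simp [Matrix.SpecialLinearGroup.coe_one]
  mul_mem' := by
    rintro a b ⟨a1, a2, a3, a4, a5, a6⟩ ⟨b1, b2, b3, b4, b5, b6⟩
    simp [Matrix.mul_apply, Fin.sum_univ_three, a1, a2, a3, a4, a5, a6, b1, b2, b3, b4, b5, b6]
  inv_mem' := by
    rintro a ⟨a1, a2, a3, a4, a5, a6⟩
    simp [Matrix.SpecialLinearGroup.coe_inv, Matrix.adjugate_fin_three, a1, a2, a3, a4, a5, a6]

theorem pow_p_eq_one (hp : p ≠ 2) {M : Matrix.SpecialLinearGroup (Fin 3) (ZMod p)} (hM : M ∈ uni3 p) :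
    M ^ p = 1 := by
  obtain ⟨a1, a2, a3, a4, a5, a6⟩ := hM
  apply Subtype.ext
  have hp3 : 3 ≤ p := by
    have := (Fact.out : p.Prime).two_le
    omega
  have h3 : ((M : Matrix (Fin 3) (Fin 3) (ZMod p)) - 1) ^ 3 = 0 := by
    ext i j
    fin_cases i <;> fin_cases j <;>
      simp [pow_succ, Matrix.mul_apply, Fin.sum_univ_three, a1, a2, a3, a4, a5, a6]
  have hc : CharP (Matrix (Fin 3) (Fin 3) (ZMod p)) p := inferInstance
  have h4 := sub_pow_char_of_commute (R := Matrix (Fin 3) (Fin 3) (ZMod p)) p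
    (Commute.one_right (M : Matrix (Fin 3) (Fin 3) (ZMod p)))
  rw [pow_eq_zero_of_le hp3 h3, one_pow] at h4
  rw [Matrix.SpecialLinearGroup.coe_pow, Matrix.SpecialLinearGroup.coe_one]
  exact sub_eq_zero.mp h4.symm

/-- `Qd(p)` has a non-abelian `p`-subgroup. -/
theorem qd_exists_noncomm (hp : p ≠ 2) :
    ∃ Q : Subgroup ↥(Cfsg.qd p), IsPGroup p ↥Q ∧ ∃ x ∈ Q, ∃ y ∈ Q, x * y ≠ y * x := by
  refine ⟨(uni3 p).subgroupOf (Cfsg.qd p), ?_, ?_⟩
  · rintro ⟨⟨M, hM⟩, hu⟩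
    refine ⟨1, Subtype.ext (Subtype.ext ?_)⟩
    rw [pow_one]
    exact pow_p_eq_one hp hu
  · have ha : tr3 (p := p) 0 1 (by decide) ∈ Cfsg.qd p :=
      Subgroup.subset_closure ⟨by simp [tr3, Matrix.transvection, Matrix.single], by simp [tr3, Matrix.transvection, Matrix.single], by simp [tr3, Matrix.transvection, Matrix.single]⟩
    have hb : tr3 (p := p) 1 2 (by decide) ∈ Cfsg.qd p :=
      Subgroup.subset_closure ⟨by simp [tr3, Matrix.transvection, Matrix.single], by simp [tr3, Matrix.transvection, Matrix.single], by simp [tr3, Matrix.transvection, Matrix.single]⟩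
    refine ⟨⟨_, ha⟩, ?_, ⟨_, hb⟩, ?_, ?_⟩
    · refine ⟨?_, ?_, ?_, ?_, ?_, ?_⟩ <;> simp [tr3, Matrix.transvection, Matrix.single]
    · refine ⟨?_, ?_, ?_, ?_, ?_, ?_⟩ <;> simp [tr3, Matrix.transvection, Matrix.single]
    · intro e
      have e' : Matrix.transvection (R := ZMod p) (0 : Fin 3) 1 1 * Matrix.transvection 1 2 1 =
          Matrix.transvection 1 2 1 * Matrix.transvection (R := ZMod p) (0 : Fin 3) 1 1 :=
        congrArg (fun M : ↥(Cfsg.qd p) =>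
          ((M : Matrix.SpecialLinearGroup (Fin 3) (ZMod p)) : Matrix (Fin 3) (Fin 3) (ZMod p))) e
      have := congrFun (congrFun e' 0) 2
      simp [Matrix.transvection, Matrix.single, Matrix.mul_apply, Fin.sum_univ_three,
        Matrix.add_apply] at this

end Qd

end Cfsg.Agent.Lib.QdFree.Basic
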